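import Cfsg.Agent.H358.SNX.EQ2
import Cfsg.Agent.H53.HC.RgdLevi

/-!
# S3831, exceptional rows, task EQ1b (helper875)

* `rep_fix` : orthogonal reflections fix the roots;
* `rootsJ_split`, `exists_mul` : the roots and the Weyl group of a union of orthogonal parts;
* `Psi`, `B_le_normalizer_Psi` : the normal subgroup `V_J U_K` of `B`;
* `EQ1b` : `z ∈ P_J`, `K` orthogonal to `J \ K`, `x' = conj z * β` trivial on `M_K` modulo `B`: `z ∈ P_{J \ K}`.
-/

set_option autoImplicit false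
set_option linter.unusedSectionVars false

namespace Cfsg.Agent.H875.SNX

open CoxeterSystem Cfsg.Agent.ChevalleyStructure.CoxeterGeom Cfsg.Agent.Tits.Roots Cfsg.Agent.Tits.Core
  Cfsg.Agent.Tits.RootComb Cfsg.Agent.Tits.Exchange Cfsg.Agent.Nodes.Reps Cfsg.Agent.Nodes.BNOf
  Cfsg.Agent.Nodes.StabComb Cfsg.Agent.Nodes.Bruhat Cfsg.Agent.Nodes.OppDec Cfsg.Agent.Nodes.LeviDec
  Cfsg.Agent.Nodes.NormalForm Cfsg.Agent.KFacts.RgdOpp Cfsg.Agent.KFacts.RgdAut Cfsg.Agent.KFacts.RgdDiag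
  Cfsg.Agent.KFacts.RgdRigid Cfsg.Agent.CpAut.RgdFix
open Cfsg.Agent.H65.Disp.Rgd

section Orth

variable {I W : Type*} [Fintype I] [DecidableEq I] [Group W] {M : CoxeterMatrix I} {cs : CoxeterSystem M W}
  {A : I → I → ℤ} {h : IsCartan M A}

theorem zero_of_two (h : IsCartan M A) {i j : I} (hij : M i j = 2) : A j i = 0 := by
  have hne : i ≠ j := by
    rintro rfl
    rw [M.diagonal] at hij
    omega
  rcases h.rel i j hne with ⟨-, -, h1⟩ | ⟨h1, -⟩ | ⟨h1, -⟩ | ⟨h1, -⟩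
  · exact h1
  all_goals omega

/-- orthogonal reflections fix the roots -/
theorem rep_fix {J K : Set I} (ho : ∀ i ∈ K, ∀ j ∈ J, M i j = 2) {v : W} (hv : v ∈ WJ cs J) {x : I → ℤ}
    (hx : ∀ k, k ∉ K → x k = 0) : rep cs h v x = x := by
  refine rep_of_mem_WJ_orth (WJ_mono cs (fun j hj => ?_) hv)
  rw [mem_orth]
  unfold pairing
  refine Finset.sum_eq_zero fun k _ => ?_
  by_cases hk : k ∈ K
  · rw [zero_of_two h (ho k hk j hj), zero_mul]
  · rw [hx k hk, mul_zero]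

theorem rootsJ_split [Finite W] {J K : Set I} (_hKJ : K ⊆ J) (ho : ∀ i ∈ K, ∀ j ∈ J \ K, M i j = 2) {x : I → ℤ}
    (hx : x ∈ RootsJ cs h J) : x ∈ RootsJ cs h K ∨ x ∈ RootsJ cs h (J \ K) := by
  obtain ⟨w, hw, j, hj, rfl⟩ := exists_of_mem_RootsJ hx
  obtain ⟨ω, hω, rfl⟩ := exists_word_of_mem_WJ cs hw
  clear hw hx
  have ho' : ∀ i ∈ J \ K, ∀ j ∈ K, M i j = 2 := fun i hi j hj => by rw [M.symmetric]; exact ho j hj i hi
  induction ω with
  | nil =>
    rw [wordProd_nil, map_one, Module.End.one_apply]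
    by_cases hjK : j ∈ K
    · exact Or.inl ⟨isRoot_sr cs h j, fun k hk => sr_ne fun e => hk (e ▸ hjK)⟩
    · exact Or.inr ⟨isRoot_sr cs h j, fun k hk => sr_ne fun e => hk (e ▸ ⟨hj, hjK⟩)⟩
  | cons i ω ih =>
    rw [wordProd_cons, rep_mul_apply]
    have hi : i ∈ J := hω i (by simp)
    by_cases hiK : i ∈ K
    · have hs : cs.simple i ∈ WJ cs K := simple_mem_WJ cs hiK
      rcases ih fun k hk => hω k (by simp [hk]) with h1 | h1
      · exact Or.inl (RootsJ.act hs h1)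
      · right
        rw [rep_fix ho' hs h1.2]
        exact h1
    · have hs : cs.simple i ∈ WJ cs (J \ K) := simple_mem_WJ cs ⟨hi, hiK⟩
      rcases ih fun k hk => hω k (by simp [hk]) with h1 | h1
      · left
        rw [rep_fix ho hs h1.2]
        exact h1
      · exact Or.inr (RootsJ.act hs h1)

theorem exists_mul {J K : Set I} (ho : ∀ i ∈ K, ∀ j ∈ J \ K, M i j = 2) {w : W} (hw : w ∈ WJ cs J) :
    ∃ u ∈ WJ cs K, ∃ v ∈ WJ cs (J \ K), w = u * v := by
  obtain ⟨ω, hω, rfl⟩ := exists_word_of_mem_WJ cs hw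
  clear hw
  induction ω with
  | nil => exact ⟨1, one_mem _, 1, one_mem _, by rw [wordProd_nil, mul_one]⟩
  | cons i ω ih =>
    obtain ⟨u, hu, v, hv, e⟩ := ih fun k hk => hω k (by simp [hk])
    have hi : i ∈ J := hω i (by simp)
    rw [wordProd_cons, e]
    by_cases hiK : i ∈ K
    · exact ⟨cs.simple i * u, mul_mem (simple_mem_WJ cs hiK) hu, v, hv, by rw [mul_assoc]⟩
    · have hs : cs.simple i ∈ WJ cs (J \ K) := simple_mem_WJ cs ⟨hi, hiK⟩
      have hc : Commute u (cs.simple i) := Cfsg.Agent.H358.SNX.commute_WJ ho hu hs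
      exact ⟨u, hu, cs.simple i * v, mul_mem hs hv, by rw [← mul_assoc, ← mul_assoc, hc.eq]⟩

/-- the positive roots outside `J` and the positive roots of `K` -/
def Psi (cs : CoxeterSystem M W) (h : IsCartan M A) (J K : Set I) : Set (I → ℤ) :=
  {x | x ∈ NotJ cs h J ∨ x ∈ PosJ cs h K}

theorem Psi.root {J K : Set I} {x : I → ℤ} (hx : x ∈ Psi cs h J K) : IsRoot cs h x ∧ 0 ≤ x := by
  rcases hx with hx | hx
  · exact ⟨hx.1, hx.2.1⟩
  · exact ⟨hx.1, hx.2.1⟩

theorem btwn_pos_NotJ {J : Set I} {x y z : I → ℤ} (hx : 0 ≤ x) (hy : y ∈ NotJ cs h J)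
    (hz : Btwn cs h x y z) : z ∈ NotJ cs h J := by
  obtain ⟨-, -, k, hk, hk0⟩ := hy
  have h1 : 0 < z k := btwn_apply_pos hz.symm hk0 (hx k)
  exact ⟨hz.1, nonneg_of_pos_apply hz.1 h1, k, hk, h1⟩

theorem btwn_Psi [Finite W] {J K : Set I} (hKJ : K ⊆ J) (ho : ∀ i ∈ K, ∀ j ∈ J \ K, M i j = 2) {x y z : I → ℤ}
    (hxr : IsRoot cs h x) (hx : 0 ≤ x) (hy : y ∈ Psi cs h J K) (hz : Btwn cs h x y z) : z ∈ Psi cs h J K := by
  rcases hy with hy | hy
  · exact Or.inl (btwn_pos_NotJ hx hy hz)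
  · rcases mem_PosJ_or_NotJ J hxr hx with h1 | h1
    · rcases rootsJ_split hKJ ho (PosJ_subset J h1) with h2 | h2
      · right
        exact ⟨hz.1, btwn_nonneg hz hx hy.2.1, fun k hk => btwn_apply_zero hz (h2.2 k hk) (hy.2.2 k hk)⟩
      · exfalso
        -- a root with a part in `K` and a part in `J \ K`
        have hzJ : z ∈ RootsJ cs h J := ⟨hz.1, fun k hk =>
          btwn_apply_zero hz (h1.2.2 k hk) (hy.2.2 k fun h3 => hk (hKJ h3))⟩
        obtain ⟨a, ha⟩ : ∃ a, 0 < x a := by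
          by_contra hcon
          push Not at hcon
          exact hxr.ne_zero (funext fun i => le_antisymm (hcon i) (hx i))
        obtain ⟨b, hb⟩ : ∃ b, 0 < y b := by
          by_contra hcon
          push Not at hcon
          exact hy.1.ne_zero (funext fun i => le_antisymm (hcon i) (hy.2.1 i))
        have haK : a ∉ K := by
          intro h3
          have h4 := h2.2 a fun h5 => h5.2 h3
          omega
        have hbK : b ∈ K := by
          by_contra h3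
          have h4 := hy.2.2 b h3
          omega
        rcases rootsJ_split hKJ ho hzJ with h3 | h3
        · have h4 := h3.2 a haK
          have h5 := btwn_apply_pos hz ha (hy.2.1 a)
          omega
        · have h4 := h3.2 b fun h5 => h5.2 hbK
          have h5 := btwn_apply_pos hz.symm hb (hx b)
          omega
    · exact Or.inl (btwn_pos_NotJ hy.2.1 h1 hz.symm)

end Orth

section Rg

variable {I W : Type*} [Fintype I] [DecidableEq I] [Group W] {Y : Type*} [Group Y] {M : CoxeterMatrix I}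
  {cs : CoxeterSystem M W} {A : I → I → ℤ} {h : IsCartan M A} {p : ℕ} {T : Subgroup Y} {n : I → Y}
  {X : (I → ℤ) → Subgroup Y} (R : RGD cs h p T n X)

include R

/-- `V_J U_K` is normal in `B` -/
theorem B_le_normalizer_Psi [Finite W] {J K : Set I} (hKJ : K ⊆ J) (ho : ∀ i ∈ K, ∀ j ∈ J \ K, M i j = 2) :
    RGD.B cs h T X ≤ Subgroup.normalizer (RGD.Sup X (Psi cs h J K) : Set Y) := by
  refine sup_le (R.T_le_normalizer fun _ hx => (Psi.root hx).1) (RGD.Sup_le fun x hx => ?_)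
  refine R.le_normalizer hx.1 fun y hy => ⟨(Psi.root hy).1, Or.inr ⟨?_, fun z hz => btwn_Psi hKJ ho hx.1 hx.2 hy hz⟩⟩
  intro e
  have h1 := (Psi.root hy).2
  have h2 := hx.2
  rw [e] at h2
  exact (Psi.root hy).1.not_pos_neg h1 (neg_nonneg.1 h2)

/-- **EQ1b** -/
theorem EQ1b [Finite W] {β : MulAut Y} (D : Diag T X β 1) {z : Y}
    {J K : Set I} (hz : z ∈ PJ cs h T X J) (hKJ : K ⊆ J) (ho : ∀ i ∈ K, ∀ j ∈ J \ K, M i j = 2)
    (h1 : ∀ y ∈ H53.HC.MJ cs h X K, y⁻¹ * (MulAut.conj z * β) y ∈ RGD.B cs h T X) : z ∈ PJ cs h T X (J \ K) := by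
  -- the positive root groups of `K`
  have hA : ∀ a ∈ PosJ cs h K, ∀ y ∈ X a, z * y * z⁻¹ ∈ RGD.B cs h T X := by
    intro a ha y hy
    have hy' : β⁻¹ y ∈ X a := ((fix_X R D ha.1).inv y).2 hy
    have h2 := h1 (β⁻¹ y) (RGD.le_Sup (PosJ_subset K ha) hy')
    have h3 : β⁻¹ y ∈ RGD.B cs h T X := RGD.U_le_B (RGD.le_Sup (S := RGD.Pos cs h) ⟨ha.1, ha.2.1⟩ hy')
    have h4 := mul_mem h3 h2
    rw [mul_inv_cancel_left, MulAut.mul_apply, MulAut.apply_inv_self, MulAut.conj_apply] at h4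
    exact h4
  have hB : RGD.Sup X (Psi cs h J K) ≤ (RGD.B cs h T X).comap (MulAut.conj z).toMonoidHom := by
    refine RGD.Sup_le fun x hx y hy => ?_
    show z * y * z⁻¹ ∈ RGD.B cs h T X
    rcases hx with hx | hx
    · exact VJ_le_B J ((Subgroup.mem_normalizer_iff.1 (PJ_le_normalizer_VJ R J hz) y).1 (RGD.le_Sup hx hy))
    · exact hA x hx y hy
  obtain ⟨w, hw, hcell⟩ := (mem_PJ_iff_cell R).1 hz
  obtain ⟨b₁, hb₁, k, hk, b₂, hb₂, e⟩ := id hcell
  have hC : ∀ a ∈ PosJ cs h K, ∀ y ∈ X a, k * y * k⁻¹ ∈ RGD.B cs h T X := by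
    intro a ha y hy
    have h2 : y ∈ RGD.Sup X (Psi cs h J K) := RGD.le_Sup (Or.inr ha) hy
    have h3 := (Subgroup.mem_normalizer_iff.1 (B_le_normalizer_Psi R hKJ ho (inv_mem hb₂)) y).1 h2
    have h4 : z * (b₂⁻¹ * y * b₂⁻¹⁻¹) * z⁻¹ ∈ RGD.B cs h T X := hB h3
    have h5 := mul_mem (mul_mem (inv_mem hb₁) h4) hb₁
    have e2 : b₁⁻¹ * (z * (b₂⁻¹ * y * b₂⁻¹⁻¹) * z⁻¹) * b₁ = k * y * k⁻¹ := by
      rw [e]
      group
    rwa [e2] at h5
  -- `w` preserves the positive roots of `K`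
  have hD : ∀ a ∈ PosJ cs h K, 0 ≤ rep cs h w a := by
    intro a ha
    rcases (ha.1.act w).pos_or_neg with h2 | h2
    · exact h2
    · exfalso
      refine X_ne_bot R ha.1 ((Subgroup.eq_bot_iff_forall _).2 fun y hy => ?_)
      have h3 := R.conj_mem hk ha.1 hy
      have h4 := eq_one_of_mem_UN_of_mem_B R (X_le_UN (ha.1.act w) h2 h3) (hC a ha y hy)
      have h5 : y = k⁻¹ * (k * y * k⁻¹) * k := by group
      rw [h5, h4]
      group
  obtain ⟨u, hu, v, hv, rfl⟩ := exists_mul ho hw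
  have hu1 : u = 1 := by
    apply eq_one_of_nonneg cs h
    intro j
    by_cases hj : j ∈ K
    · have h2 := hD _ (sr_mem_PosJ hj)
      rwa [rep_mul_apply, rep_fix ho hv (sr_mem_PosJ (cs := cs) (h := h) hj).2.2] at h2
    · refine nonneg_of_pos_apply ((isRoot_sr cs h j).act u) (k := j) ?_
      rw [rep_apply_of_mem cs h hu _ hj, Pi.single_eq_same]
      norm_num
  rw [hu1, one_mul] at hcell
  exact (mem_PJ_iff_cell R).2 ⟨v, hv, hcell⟩

end Rg

end Cfsg.Agent.H875.SNX
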