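import Cfsg.Agent.H65.Disp.Chev
import Cfsg.Agent.LieRecognition.BNCox

/-!
# S3831, exceptional rows, task EQ4 (helper875): combinatorics of the sublists of the bipartite word

* `wordProd_filter` : splitting of a word into commuting parts;
* `mem_of_wordProd_mem` : the letters of a word without repetitions;
* `Chn` : the chains (type `A_m`, `m ≥ 2`); `Kill` : the words killed by the length argument;
* `Good` : every non-empty sublist of `ω` has an orthogonal part in the list `bs` or is orthogonal to a chain of the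
  list `ks` outside the chain, and meets it.
-/

set_option autoImplicit false
set_option linter.unusedSectionVars false

namespace Cfsg.Agent.H875.SNX

open CoxeterSystem Cfsg.Agent.ChevalleyStructure.CoxeterGeom Cfsg.Agent.Tits.Roots Cfsg.Agent.Tits.Core
  Cfsg.Agent.Tits.RootComb Cfsg.Agent.Tits.Exchange Cfsg.Agent.Nodes.Reps Cfsg.Agent.KFacts.RgdDiag
open Cfsg.Agent.H65.Disp.Rgd Cfsg.Agent.H65.Disp.Chev
open Cfsg.Agent.LieRecognition.BNCox (cA)

section Cox

variable {I W : Type*} [Fintype I] [DecidableEq I] [Group W] {M : CoxeterMatrix I} {cs : CoxeterSystem M W}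

theorem commute_simple {i j : I} (hij : M i j = 2) : Commute (cs.simple i) (cs.simple j) := by
  have h1 := cs.simple_mul_simple_pow i j
  rw [hij, pow_two] at h1
  have h2 := eq_inv_of_mul_eq_one_left h1
  rw [mul_inv_rev, cs.inv_simple, cs.inv_simple] at h2
  exact h2

theorem commute_simple_wordProd {i : I} {ω : List I} (hω : ∀ j ∈ ω, M i j = 2) :
    Commute (cs.simple i) (cs.wordProd ω) := by
  induction ω with
  | nil => rw [wordProd_nil]; exact Commute.one_right _
  | cons j ω ih =>
    rw [wordProd_cons]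
    exact (commute_simple (hω j (by simp))).mul_right (ih fun k hk => hω k (by simp [hk]))

/-- splitting of a word -/
theorem wordProd_filter (P : I → Bool) (ω : List I)
    (hc : ∀ i ∈ ω, ∀ j ∈ ω, P i = true → P j = false → M i j = 2) :
    cs.wordProd (ω.filter P ++ ω.filter fun i => !P i) = cs.wordProd ω := by
  induction ω with
  | nil => rfl
  | cons a ω ih =>
    have ih' := ih fun i hi j hj => hc i (by simp [hi]) j (by simp [hj])
    rw [wordProd_append] at ih'
    rw [wordProd_append, wordProd_cons, ← ih']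
    cases ha : P a with
    | true =>
      rw [List.filter_cons_of_pos (by rw [ha]), List.filter_cons_of_neg (by rw [ha]; simp), wordProd_cons, mul_assoc]
    | false =>
      rw [List.filter_cons_of_neg (by rw [ha]; simp), List.filter_cons_of_pos (by rw [ha]; rfl), wordProd_cons]
      have h1 : Commute (cs.simple a) (cs.wordProd (ω.filter P)) := by
        refine commute_simple_wordProd fun j hj => ?_
        rw [List.mem_filter] at hj
        rw [M.symmetric]
        exact hc j (by simp [hj.1]) a (by simp) hj.2 ha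
      rw [← mul_assoc, ← mul_assoc, h1.eq]

/-- the letters of a word without repetitions -/
theorem mem_of_wordProd_mem [Finite W] {A : I → I → ℤ} (_h : IsCartan M A) {ω : List I} (hn : ω.Nodup) {K : Set I}
    (hK : cs.wordProd ω ∈ WJ cs K) {i : I} (hi : i ∈ ω) : i ∈ K := by
  by_contra hc
  obtain ⟨a, b, rfl⟩ := List.append_of_mem hi
  have hn' : i ∉ a ∧ i ∉ b := by
    rw [List.nodup_append] at hn
    obtain ⟨-, h2, h3⟩ := hn
    exact ⟨fun h4 => h3 i h4 i (by simp) rfl, (List.nodup_cons.1 h2).1⟩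
  have h1 : cs.wordProd a ∈ WJ cs {j | j ≠ i} := wordProd_mem_WJ cs fun j hj => by
    rintro rfl
    exact hn'.1 hj
  have h2 : cs.wordProd b ∈ WJ cs {j | j ≠ i} := wordProd_mem_WJ cs fun j hj => by
    rintro rfl
    exact hn'.2 hj
  have h3 : cs.wordProd (a ++ i :: b) ∈ WJ cs {j | j ≠ i} := WJ_mono cs (fun j hj => by
    rintro rfl
    exact hc hj) hK
  rw [wordProd_append, wordProd_cons] at h3
  have h4 : cs.simple i ∈ WJ cs {j | j ≠ i} := by
    have h5 := mul_mem (mul_mem (inv_mem h1) h3) (inv_mem h2)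
    have e : (cs.wordProd a)⁻¹ * (cs.wordProd a * (cs.simple i * cs.wordProd b)) * (cs.wordProd b)⁻¹ =
        cs.simple i := by group
    rwa [e] at h5
  have h5 : cs.simple i ∈ WJ cs {i} := simple_mem_WJ cs rfl
  have h6 := Cfsg.Agent.Tits.Ext.WJ_inter Cfsg.Agent.Tits.Ext.simple_injective h4 h5
  have h7 : {j | j ≠ i} ∩ ({i} : Set I) = ∅ := by
    ext j
    simp
  rw [h7] at h6
  exact simple_ne_one i (WJ_empty h6)

end Cox

/-! ### the finite data -/

variable {l : ℕ}

/-- the chains of type `A_m`, `m ≥ 2` -/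
def Chn (M : CoxeterMatrix (Fin l)) (c : List (Fin l)) : Prop :=
  2 ≤ c.length ∧ c.Nodup ∧ ∀ i j : Fin c.length, ent M (c.get i) (c.get j) = ent (cA c.length) i j

/-- the words killed by the length argument -/
def Kill (A : Fin l → Fin l → ℤ) (b : List (Fin l)) : Prop :=
  Chk A b ∧ Chk A (b ++ b) ∧ ∃ i, act A (b ++ b ++ b) (sr i) ≠ sr i

/-- the test -/
def good1 (M : CoxeterMatrix (Fin l)) (bs ks : List (List (Fin l))) (ω' : List (Fin l)) : Bool :=
  ω'.isEmpty || bs.any (fun b => decide (ω'.filter (fun i => decide (i ∈ b)) = b) &&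
      b.all fun i => ω'.all fun j => decide (j ∈ b) || decide (ent M i j = 2)) ||
    ks.any fun c => (c.any fun i => decide (i ∈ ω')) &&
      c.all fun i => ω'.all fun j => decide (j ∈ c) || decide (ent M i j = 2)

/-- the test for all the sublists -/
def Good (M : CoxeterMatrix (Fin l)) (bs ks : List (List (Fin l))) (ω : List (Fin l)) : Bool :=
  ω.sublists.all (good1 M bs ks)

theorem good1_spec {M : CoxeterMatrix (Fin l)} {bs ks : List (List (Fin l))} {ω' : List (Fin l)}
    (hg : good1 M bs ks ω' = true) (hne : ω' ≠ []) :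
    (∃ b ∈ bs, ω'.filter (fun i => decide (i ∈ b)) = b ∧ ∀ i ∈ b, ∀ j ∈ ω', j ∉ b → M i j = 2) ∨
      ∃ c ∈ ks, (∃ i ∈ c, i ∈ ω') ∧ ∀ i ∈ c, ∀ j ∈ ω', j ∉ c → M i j = 2 := by
  unfold good1 at hg
  rw [Bool.or_eq_true, Bool.or_eq_true] at hg
  rcases hg with (hg | hg) | hg
  · exact absurd (List.isEmpty_iff.1 hg) hne
  · left
    obtain ⟨b, hb, h1⟩ := List.any_eq_true.1 hg
    rw [Bool.and_eq_true] at h1
    obtain ⟨h1, h2⟩ := h1
    refine ⟨b, hb, of_decide_eq_true h1, fun i hi j hj hjb => ?_⟩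
    have h3 := List.all_eq_true.1 (List.all_eq_true.1 h2 i hi) j hj
    rw [Bool.or_eq_true] at h3
    rcases h3 with h3 | h3
    · exact absurd (of_decide_eq_true h3) hjb
    · exact of_decide_eq_true h3
  · right
    obtain ⟨b, hb, h1⟩ := List.any_eq_true.1 hg
    rw [Bool.and_eq_true] at h1
    obtain ⟨h1, h2⟩ := h1
    obtain ⟨i₀, hi₀, h4⟩ := List.any_eq_true.1 h1
    refine ⟨b, hb, ⟨i₀, hi₀, of_decide_eq_true h4⟩, fun i hi j hj hjb => ?_⟩
    have h3 := List.all_eq_true.1 (List.all_eq_true.1 h2 i hi) j hj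
    rw [Bool.or_eq_true] at h3
    rcases h3 with h3 | h3
    · exact absurd (of_decide_eq_true h3) hjb
    · exact of_decide_eq_true h3

theorem good_spec {M : CoxeterMatrix (Fin l)} {bs ks : List (List (Fin l))} {ω ω' : List (Fin l)}
    (hg : Good M bs ks ω = true) (hs : ω'.Sublist ω) (hne : ω' ≠ []) :
    (∃ b ∈ bs, ω'.filter (fun i => decide (i ∈ b)) = b ∧ ∀ i ∈ b, ∀ j ∈ ω', j ∉ b → M i j = 2) ∨
      ∃ c ∈ ks, (∃ i ∈ c, i ∈ ω') ∧ ∀ i ∈ c, ∀ j ∈ ω', j ∉ c → M i j = 2 :=
  good1_spec (List.all_eq_true.1 hg ω' (List.mem_sublists.2 hs)) hne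

/-- the complete data of a type -/
structure Data (M : CoxeterMatrix (Fin l)) (A : Fin l → Fin l → ℤ) (ω : List (Fin l)) (bs ks : List (List (Fin l))) :
    Prop where
  ty : Ty M A ω
  good : Good M bs ks ω = true
  kill : ∀ b ∈ bs, Kill A b
  chn : ∀ c ∈ ks, Chn M c
  cov : ∀ i, ∃ c ∈ ks, i ∈ c

end Cfsg.Agent.H875.SNX
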