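import Cfsg.Agent.H875.SNX.Rows
import Cfsg.Agent.H790.SNX.Comp

/-!
# S3831, exceptional rows, task EQ4 (helper875): the exact statements

`EQ4_F4`, `EQ4_E6`, `EQ4_E7`, `EQ4_E8`, `EQ4_twE6` : `G3 K` for `K = F₄(q)`, `E₆(q)`, `E₇(q)`, `E₈(q)`, `²E₆(q)`, `q ≠ 3`.
-/

set_option autoImplicit false

namespace Cfsg.Agent.H875.SNX

open Cfsg Cfsg.Lie Cfsg.Lie.ChevalleyDatum Cfsg.Agent.H21.SN

theorem allTools : AllTools := by
  intro l W _ Y _ M cs A h p T n X R hW hY _ hp hG β hU D z hx hP hR J hz m hm k hk hkJ ho F _ _ φ C hS hG3 y hy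
  have : Fact p.Prime := ⟨hp⟩
  exact Cfsg.Agent.H790.SNX.EQ1a R hG hU D hx hP hR hz hm k hk hkJ ho C hS hG3 hy

theorem EQ4_F4 (hp : HPsl) {F : Type} [Field F] [Fintype F] (hF : Fintype.card F ≠ 3)
    [IsSimpleGroup ↥(chevF4.group F)] : G3 ↥(chevF4.group F) := g3_F4 allTools hp hF

theorem EQ4_E6 (hp : HPsl) {F : Type} [Field F] [Fintype F] (hF : Fintype.card F ≠ 3)
    [IsSimpleGroup ↥(chevE6.group F)] : G3 ↥(chevE6.group F) := g3_E6 allTools hp hF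

theorem EQ4_E7 (hp : HPsl) {F : Type} [Field F] [Fintype F] (hF : Fintype.card F ≠ 3)
    [IsSimpleGroup ↥(chevE7.group F)] : G3 ↥(chevE7.group F) := g3_E7 allTools hp hF

theorem EQ4_E8 (hp : HPsl) {F : Type} [Field F] [Fintype F] (hF : Fintype.card F ≠ 3)
    [IsSimpleGroup ↥(chevE8.group F)] : G3 ↥(chevE8.group F) := g3_E8 allTools hp hF

theorem EQ4_twE6 (hp : HPsl) {E : Type} [Field E] [Fintype E] {q : ℕ} (hq : IsPrimePow q)
    (hE : Fintype.card E = q ^ 2) (h3 : q ≠ 3) [IsSimpleGroup ↥(twistedE6 E q)] : G3 ↥(twistedE6 E q) :=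
  g3_twE6 allTools hp hq hE h3

end Cfsg.Agent.H875.SNX
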