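import Cfsg.Agent.H875.SNX.Comb
import Cfsg.Agent.H65.Disp.Twist

/-!
# S3831, exceptional rows, task EQ4 (helper875): the finite data of the types `F₄`, `E₆`, `E₇`, `E₈`
-/

set_option autoImplicit false
set_option linter.unusedSectionVars false

namespace Cfsg.Agent.H875.SNX

open Cfsg.Agent.ChevalleyStructure.CoxeterGeom Cfsg.Agent.Tits.Roots Cfsg.Agent.Nodes.Reps
open Cfsg.Agent.H65.Disp.Rgd Cfsg.Agent.H65.Disp.Chev
open Cfsg.Agent.LieRecognition.BNCox (cA)
open Cfsg.Lie Cfsg.Agent.ChevalleyStructure.CoxeterGeomTypes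

/-- the chains of a list -/
def chnB {l : ℕ} (M : CoxeterMatrix (Fin l)) (c : List (Fin l)) : Bool :=
  decide (2 ≤ c.length) && decide c.Nodup &&
    decide (∀ i j : Fin c.length, ent M (c.get i) (c.get j) = ent (cA c.length) i j)

theorem chn_of {l : ℕ} {M : CoxeterMatrix (Fin l)} {ks : List (List (Fin l))} (h : ks.all (chnB M) = true) :
    ∀ c ∈ ks, Chn M c := by
  intro c hc
  have h1 := List.all_eq_true.1 h c hc
  unfold chnB at h1
  rw [Bool.and_eq_true, Bool.and_eq_true] at h1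
  exact ⟨of_decide_eq_true h1.1.1, of_decide_eq_true h1.1.2, of_decide_eq_true h1.2⟩

/-- the words killed by the length argument -/
def killB {l : ℕ} (A : Fin l → Fin l → ℤ) (b : List (Fin l)) : Bool :=
  decide (Chk A b) && decide (Chk A (b ++ b)) && decide (∃ i, act A (b ++ b ++ b) (sr i) ≠ sr i)

theorem kill_of {l : ℕ} {A : Fin l → Fin l → ℤ} {bs : List (List (Fin l))} (h : bs.all (killB A) = true) :
    ∀ b ∈ bs, Kill A b := by
  intro b hb
  have h1 := List.all_eq_true.1 h b hb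
  unfold killB at h1
  rw [Bool.and_eq_true, Bool.and_eq_true] at h1
  exact ⟨of_decide_eq_true h1.1.1, of_decide_eq_true h1.1.2, of_decide_eq_true h1.2⟩

theorem data_F4 : Data CoxeterMatrix.F₄ (cartanOf chevF4 4) [0, 2, 1, 3]
    [[2, 1], [0, 2, 1], [2, 1, 3], [0, 2, 1, 3]] [[0, 1], [2, 3]] where
  ty := ty_F4
  good := by decide +kernel
  kill := kill_of (by decide +kernel)
  chn := chn_of (by decide +kernel)
  cov := by decide

theorem data_twE6 : Data CoxeterMatrix.F₄ Nodes.RGDTwE6.A [0, 2, 1, 3]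
    [[2, 1], [0, 2, 1], [2, 1, 3], [0, 2, 1, 3]] [[0, 1], [2, 3]] where
  ty := Cfsg.Agent.H65.Disp.Twist.ty_E6
  good := by decide +kernel
  kill := kill_of (by decide +kernel)
  chn := chn_of (by decide +kernel)
  cov := by decide

theorem data_E6 : Data CoxeterMatrix.E₆ (cartanOf chevE6 6) [0, 3, 5, 1, 2, 4]
    [[3, 1, 2, 4], [0, 3, 1, 2, 4], [3, 5, 1, 2, 4], [0, 3, 5, 1, 2, 4]]
    [[0, 2, 3, 4, 5], [0, 2, 3, 1], [4, 5], [1, 3, 4, 5]] where
  ty := ty_E6
  good := by decide +kernel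
  kill := kill_of (by decide +kernel)
  chn := chn_of (by decide +kernel)
  cov := by decide

theorem data_E7 : Data CoxeterMatrix.E₇ (cartanOf chevE7 7) [0, 3, 5, 1, 2, 4, 6]
    [[3, 1, 2, 4], [0, 3, 1, 2, 4], [3, 5, 1, 2, 4], [0, 3, 5, 1, 2, 4], [3, 5, 1, 2, 4, 6], [0, 3, 5, 1, 2, 4, 6]]
    [[0, 2, 3, 4, 5, 6], [0, 2, 3, 1], [4, 5, 6], [1, 3, 4, 5, 6]] where
  ty := ty_E7
  good := by decide +kernel
  kill := kill_of (by decide +kernel)
  chn := chn_of (by decide +kernel)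
  cov := by decide

theorem data_E8 : Data CoxeterMatrix.E₈ (cartanOf chevE8 8) [0, 3, 5, 7, 1, 2, 4, 6]
    [[3, 1, 2, 4], [0, 3, 1, 2, 4], [3, 5, 1, 2, 4], [0, 3, 5, 1, 2, 4], [3, 5, 1, 2, 4, 6], [0, 3, 5, 1, 2, 4, 6],
      [3, 5, 7, 1, 2, 4, 6], [0, 3, 5, 7, 1, 2, 4, 6]]
    [[0, 2, 3, 4, 5, 6, 7], [0, 2, 3, 1], [4, 5, 6, 7], [1, 3, 4, 5, 6, 7]] where
  ty := ty_E8
  good := by decide +kernel
  kill := kill_of (by decide +kernel)
  chn := chn_of (by decide +kernel)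
  cov := by decide

end Cfsg.Agent.H875.SNX
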