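import Cfsg.Agent.H875.SNX.Eng
import Cfsg.Agent.H875.SNX.Fin
import Cfsg.Agent.H35.ExcIdxTw
import Cfsg.Agent.KFacts.SLRow.Chev

/-!
# S3831, exceptional rows, task EQ4 (helper875): `F₄(q)`, `E₆(q)`, `E₇(q)`, `E₈(q)`, `²E₆(q)`, `q ≠ 3`

`AllTools` : the statement EQ1a for all root group data.
-/

set_option autoImplicit false
set_option linter.unusedSectionVars false

namespace Cfsg.Agent.H875.SNX

open CoxeterSystem Cfsg.Agent.ChevalleyStructure.CoxeterGeom Cfsg.Agent.Tits.Roots Cfsg.Agent.Tits.Core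
  Cfsg.Agent.Nodes.Reps Cfsg.Agent.Nodes.BNOf Cfsg.Agent.Nodes.Bruhat Cfsg.Agent.Nodes.RGDChev
open Cfsg.Agent.H65.Disp.Rgd Cfsg.Agent.H65.Disp.Chev
open Cfsg Cfsg.Lie Cfsg.Agent.ChevalleyStructure.CoxeterGeomTypes Cfsg.Agent.H21.SN

/-- the statement EQ1a for all root group data -/
def AllTools : Prop := ∀ (l : ℕ) (W : Type) [Group W] (Y : Type) [Group Y] (M : CoxeterMatrix (Fin l))
  (cs : CoxeterSystem M W) (A : Fin l → Fin l → ℤ) (h : IsCartan M A) (p : ℕ) (T : Subgroup Y) (n : Fin l → Y)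
  (X : (Fin l → ℤ) → Subgroup Y), RGD cs h p T n X → Finite W → Finite Y → IsSimpleGroup Y → p.Prime →
  GG cs h T X = ⊤ → Tools cs h T X

/-- the Chevalley groups -/
theorem g3_chev (hT : AllTools) (hpsl : HPsl) {D : ChevalleyDatum} {l : ℕ} {M : CoxeterMatrix (Fin l)}
    (hp : IsType D l M) {ω : List (Fin l)} {bs ks : List (List (Fin l))} (hD : Data M (cartanOf D l) ω bs ks)
    {F : Type} [Field F] [Fintype F] (hF : Fintype.card F ≠ 3) [IsSimpleGroup ↥(D.group F)] : G3 ↥(D.group F) := by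
  obtain ⟨p, hchar⟩ := CharP.exists F
  have hpp : p.Prime := CharP.char_is_prime F p
  have : Fact p.Prime := ⟨hpp⟩
  have hW := finite_W hp M.toCoxeterSystem
  have hfin : Finite ↥(D.group F) := inferInstance
  have hG := GG_top hp F p
  refine g3_of_data (rgd (K := F) hp M.toCoxeterSystem p) hG
    (hT _ _ _ _ _ _ _ _ _ _ _ (rgd (K := F) hp M.toCoxeterSystem p) hW hfin inferInstance hpp hG) hpsl ?_ hD
  intro i
  rw [KFacts.SLRow.Chev.card_XV hp F M.toCoxeterSystem (isRoot_sr _ _ i), Nat.card_eq_fintype_card]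
  exact hF

theorem g3_F4 (hT : AllTools) (hp : HPsl) {F : Type} [Field F] [Fintype F] (hF : Fintype.card F ≠ 3)
    [IsSimpleGroup ↥(chevF4.group F)] : G3 ↥(chevF4.group F) :=
  g3_chev hT hp (by simp [IsType, typeList]) data_F4 hF

theorem g3_E6 (hT : AllTools) (hp : HPsl) {F : Type} [Field F] [Fintype F] (hF : Fintype.card F ≠ 3)
    [IsSimpleGroup ↥(chevE6.group F)] : G3 ↥(chevE6.group F) :=
  g3_chev hT hp (by simp [IsType, typeList]) data_E6 hF

theorem g3_E7 (hT : AllTools) (hp : HPsl) {F : Type} [Field F] [Fintype F] (hF : Fintype.card F ≠ 3)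
    [IsSimpleGroup ↥(chevE7.group F)] : G3 ↥(chevE7.group F) :=
  g3_chev hT hp (by simp [IsType, typeList]) data_E7 hF

theorem g3_E8 (hT : AllTools) (hp : HPsl) {F : Type} [Field F] [Fintype F] (hF : Fintype.card F ≠ 3)
    [IsSimpleGroup ↥(chevE8.group F)] : G3 ↥(chevE8.group F) :=
  g3_chev hT hp (by simp [IsType, typeList]) data_E8 hF

/-- `²E₆(q)` -/
theorem g3_twE6 (hT : AllTools) (hpsl : HPsl) {E : Type} [Field E] [Fintype E] {q : ℕ} (hq : IsPrimePow q)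
    (hE : Fintype.card E = q ^ 2) (h3 : q ≠ 3) [IsSimpleGroup ↥(twistedE6 E q)] : G3 ↥(twistedE6 E q) := by
  obtain ⟨p, hchar⟩ := CharP.exists E
  have hpp : p.Prime := CharP.char_is_prime E p
  have : Fact p.Prime := ⟨hpp⟩
  obtain ⟨φ, hφ, hqq⟩ := Cfsg.Agent.ChevalleyStructure.TwE6Basic.exists_frob hq hE
  have hW := Nodes.RGDFold.finite_W (hp := Nodes.RGDTwE6.hp) CoxeterMatrix.F₄.toCoxeterSystem
    Nodes.RGDTwE6.isCartan Nodes.RGDTwE6.foldData
  have hfin : Finite ↥(twistedE6 E q) := inferInstance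
  have R := Nodes.RGDTwE6.rgd CoxeterMatrix.F₄.toCoxeterSystem hφ hqq p
  have hG := Cfsg.Agent.H65.Disp.Twist.GG_top_of_G1 R
    (Nodes.RGDTwE6.G1_eq_top CoxeterMatrix.F₄.toCoxeterSystem hφ hqq)
  refine g3_of_data R hG (hT _ _ _ _ _ _ _ _ _ _ _ R hW hfin inferInstance hpp hG) hpsl ?_ data_twE6
  intro i
  rw [H35.ExcIdx.card_X_tw hφ hqq hq.one_lt hE i]
  unfold H35.ExcIdx.fE
  split_ifs
  · exact h3
  · intro h4
    have h5 : q < 2 := by nlinarith
    have h6 := hq.one_lt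
    omega

end Cfsg.Agent.H875.SNX
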